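import Mathlib
import Cfsg.Prelude.Def_HallClasses
import Cfsg.Agent.S4269
import Cfsg.Agent.Lib.Helper12.SylowBasic

set_option autoImplicit false

namespace Cfsg.Agent.Lib.Helper22.Pronormal

open Cfsg.Agent.S4269

universe u

variable {G : Type u} [Group G]

def Good (H : Subgroup G) (g : G) : Prop :=
  ∃ x ∈ H ⊔ H.map (MulAut.conj g).toMonoidHom,
    H.map (MulAut.conj g).toMonoidHom = H.map (MulAut.conj x).toMonoidHom

def PronIn (M K : Subgroup G) : Prop := ∀ g ∈ M, Good K g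

theorem map_conj_one (H : Subgroup G) : H.map (MulAut.conj (1 : G)).toMonoidHom = H :=
  map_conj_of_mem H 1 H.one_mem

theorem map_conj_inv_cancel (H : Subgroup G) (g : G) :
    (H.map (MulAut.conj g).toMonoidHom).map (MulAut.conj g⁻¹).toMonoidHom = H := by
  rw [← map_conj_mul, inv_mul_cancel, map_conj_one]

theorem mem_normalizer_of_le [Finite G] (Q : Subgroup G) (g : G)
    (h : Q.map (MulAut.conj g).toMonoidHom ≤ Q) : g ∈ Subgroup.normalizer (Q : Set G) :=
  mem_normalizer_of_map_conj Q g (Subgroup.eq_of_le_of_card_ge h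
    (Subgroup.card_map_of_injective (MulEquiv.injective _)).ge)

theorem good_of_mul (H : Subgroup G) (g b : G) (hb : b ∈ H ⊔ H.map (MulAut.conj g).toMonoidHom)
    (h : Good H (b⁻¹ * g)) : Good H g := by
  obtain ⟨x, hx, hxe⟩ := h
  have hle : H.map (MulAut.conj (b⁻¹ * g)).toMonoidHom ≤ H ⊔ H.map (MulAut.conj g).toMonoidHom := by
    intro y hy
    rw [map_conj_mul, mem_map_conj, inv_inv] at hy
    have h1 : b * y * b⁻¹ ∈ H ⊔ H.map (MulAut.conj g).toMonoidHom :=
      (le_sup_right : H.map (MulAut.conj g).toMonoidHom ≤ H ⊔ H.map (MulAut.conj g).toMonoidHom) hy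
    have e : y = b⁻¹ * (b * y * b⁻¹) * b := by group
    rw [e]
    exact Subgroup.mul_mem _ (Subgroup.mul_mem _ (Subgroup.inv_mem _ hb) h1) hb
  refine ⟨b * x, Subgroup.mul_mem _ hb ((sup_le le_sup_left hle) hx), ?_⟩
  rw [map_conj_mul H b x, ← hxe, ← map_conj_mul, mul_inv_cancel_left]

theorem good_congr (H : Subgroup G) (g g' : G)
    (h : H.map (MulAut.conj g).toMonoidHom = H.map (MulAut.conj g').toMonoidHom)
    (hg' : Good H g') : Good H g := by
  unfold Good at hg' ⊢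
  rw [h]; exact hg'

theorem isPronormal_conj (H : Subgroup G) (c : G) (h : Cfsg.IsPronormal H) :
    Cfsg.IsPronormal (H.map (MulAut.conj c).toMonoidHom) := by
  intro g
  obtain ⟨x, hx, hxe⟩ := h (c⁻¹ * g * c)
  have e0 : c * (c⁻¹ * g * c) = g * c := by group
  refine ⟨c * x * c⁻¹, ?_, ?_⟩
  · have h1 : (H ⊔ H.map (MulAut.conj (c⁻¹ * g * c)).toMonoidHom).map (MulAut.conj c).toMonoidHom =
        H.map (MulAut.conj c).toMonoidHom ⊔
          (H.map (MulAut.conj c).toMonoidHom).map (MulAut.conj g).toMonoidHom := by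
      rw [Subgroup.map_sup, ← map_conj_mul H c (c⁻¹ * g * c), ← map_conj_mul H g c, e0]
    rw [← h1]
    exact ⟨x, hx, by simp [MulAut.conj_apply]⟩
  · rw [← map_conj_mul H g c, ← map_conj_mul H (c * x * c⁻¹) c]
    have e2 : c * x * c⁻¹ * c = c * x := by group
    rw [← e0, e2, map_conj_mul H c (c⁻¹ * g * c), map_conj_mul H c x, hxe]

theorem map_map_conj {X Y : Type*} [Group X] [Group Y] (f : X →* Y) (K : Subgroup X) (g : X) :
    (K.map (MulAut.conj g).toMonoidHom).map f =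
      (K.map f).map (MulAut.conj (f g)).toMonoidHom := by
  rw [Subgroup.map_map, Subgroup.map_map]
  congr 1
  ext y
  simp [MulAut.conj_apply]

theorem pronIn_of_isPronormal_subgroupOf (M K : Subgroup G) (hKM : K ≤ M)
    (h : Cfsg.IsPronormal (K.subgroupOf M)) : PronIn M K := by
  intro g hg
  obtain ⟨x, hx, hxe⟩ := h ⟨g, hg⟩
  have hK : (K.subgroupOf M).map M.subtype = K := Subgroup.map_subgroupOf_eq_of_le hKM
  refine ⟨(x : G), ?_, ?_⟩
  · have h1 : M.subtype x ∈ ((K.subgroupOf M) ⊔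
        (K.subgroupOf M).map (MulAut.conj (⟨g, hg⟩ : ↥M)).toMonoidHom).map M.subtype :=
      ⟨x, hx, rfl⟩
    rw [Subgroup.map_sup, map_map_conj, hK] at h1
    exact h1
  · have h2 := congrArg (Subgroup.map M.subtype) hxe
    rw [map_map_conj, map_map_conj, hK] at h2
    exact h2

theorem isPronormal_subgroupOf_of_pronIn (M K : Subgroup G) (hKM : K ≤ M) (h : PronIn M K) :
    Cfsg.IsPronormal (K.subgroupOf M) := by
  intro m
  obtain ⟨x, hx, hxe⟩ := h (m : G) m.2
  have hK : (K.subgroupOf M).map M.subtype = K := Subgroup.map_subgroupOf_eq_of_le hKM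
  have hsup : ((K.subgroupOf M) ⊔ (K.subgroupOf M).map (MulAut.conj m).toMonoidHom).map M.subtype =
      K ⊔ K.map (MulAut.conj (m : G)).toMonoidHom := by
    rw [Subgroup.map_sup, map_map_conj, hK]; rfl
  rw [← hsup] at hx
  obtain ⟨x', hx', rfl⟩ := hx
  refine ⟨x', hx', ?_⟩
  apply Subgroup.map_injective (Subgroup.subtype_injective M)
  rw [map_map_conj, map_map_conj, hK]
  exact hxe

theorem isPronormal_map {X Y : Type*} [Group X] [Group Y] (f : X →* Y)
    (hf : Function.Surjective f) (K : Subgroup X) (h : Cfsg.IsPronormal K) :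
    Cfsg.IsPronormal (K.map f) := by
  intro gb
  obtain ⟨g, rfl⟩ := hf gb
  obtain ⟨x, hx, hxe⟩ := h g
  refine ⟨f x, ?_, ?_⟩
  · rw [← map_map_conj, ← Subgroup.map_sup]
    exact ⟨x, hx, rfl⟩
  · rw [← map_map_conj, ← map_map_conj, hxe]

theorem isPronormal_of_map {X Y : Type*} [Group X] [Group Y] (f : X →* Y)
    (K : Subgroup X) (hker : f.ker ≤ K) (h : Cfsg.IsPronormal (K.map f)) :
    Cfsg.IsPronormal K := by
  intro g
  obtain ⟨xb, hxb, hxe⟩ := h (f g)
  rw [← map_map_conj, ← Subgroup.map_sup] at hxb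
  obtain ⟨x, hx, rfl⟩ := hxb
  refine ⟨x, hx, ?_⟩
  rw [← map_map_conj, ← map_map_conj] at hxe
  have h2 := congrArg (Subgroup.comap f) hxe
  rw [Subgroup.comap_map_eq, Subgroup.comap_map_eq] at h2
  have hk : ∀ c : X, f.ker ≤ K.map (MulAut.conj c).toMonoidHom := by
    intro c n hn
    rw [Cfsg.Agent.S4269.mem_map_conj]
    apply hker
    rw [MonoidHom.mem_ker] at hn ⊢
    rw [map_mul, map_mul, hn, map_inv, mul_one, inv_mul_cancel]
  rw [sup_eq_left.mpr (hk g), sup_eq_left.mpr (hk x)] at h2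
  exact h2

theorem exists_sylow_le_of_not_dvd_index [Finite G] {p : ℕ} [hp : Fact p.Prime] (K : Subgroup G)
    (h : ¬ p ∣ K.index) : ∃ P : Sylow p G, (P : Subgroup G) ≤ K := by
  obtain ⟨S⟩ : Nonempty (Sylow p ↥K) := inferInstance
  have hS' : IsPGroup p ↥((S : Subgroup ↥K).map K.subtype) := S.isPGroup'.map _
  have hidx : ¬ p ∣ ((S : Subgroup ↥K).map K.subtype).index := by
    rw [Subgroup.index_map_of_injective _ (Subgroup.subtype_injective K), Subgroup.range_subtype]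
    intro hd
    rcases (Nat.Prime.dvd_mul hp.out).mp hd with h1 | h1
    · exact S.not_dvd_index h1
    · exact h h1
  exact ⟨hS'.toSylow hidx, Subgroup.map_subtype_le _⟩

theorem sylow_conj_in [Finite G] {p : ℕ} [Fact p.Prime] (V T₁ T₂ : Subgroup G)
    (h1 : T₁ ≤ V) (h2 : T₂ ≤ V) (hp1 : IsPGroup p ↥T₁) (hp2 : IsPGroup p ↥T₂)
    (hcard : Nat.card T₁ = Nat.card T₂) (hidx : ¬ p ∣ T₁.relIndex V) :
    ∃ v ∈ V, T₂ = T₁.map (MulAut.conj v).toMonoidHom := by
  have hp1' : IsPGroup p ↥(T₁.subgroupOf V) := hp1.comap_subtype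
  have hp2' : IsPGroup p ↥(T₂.subgroupOf V) := hp2.comap_subtype
  obtain ⟨v, hv⟩ := Cfsg.Agent.Lib.Helper12.SylowBasic.exists_conj_le_sylow
    (hp1'.toSylow hidx) (T₂.subgroupOf V) hp2'
  refine ⟨(v : G)⁻¹, V.inv_mem v.2, ?_⟩
  have hle : T₂ ≤ T₁.map (MulAut.conj (v : G)⁻¹).toMonoidHom := by
    intro t ht
    rw [mem_map_conj, inv_inv]
    have h3 := hv ⟨t, h2 ht⟩ (Subgroup.mem_subgroupOf.mpr ht)
    exact Subgroup.mem_subgroupOf.mp h3
  apply Subgroup.eq_of_le_of_card_ge hle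
  rw [Subgroup.card_map_of_injective (MulEquiv.injective _), hcard]

theorem inf_map_conj (A H : Subgroup G) [hA : A.Normal] (g : G) :
    (H ⊓ A).map (MulAut.conj g).toMonoidHom = H.map (MulAut.conj g).toMonoidHom ⊓ A := by
  ext x
  rw [mem_map_conj, Subgroup.mem_inf, Subgroup.mem_inf, mem_map_conj]
  constructor
  · rintro ⟨h1, h2⟩
    refine ⟨h1, ?_⟩
    have h3 := hA.conj_mem _ h2 g
    have e : g * (g⁻¹ * x * g) * g⁻¹ = x := by group
    rw [e] at h3; exact h3
  · rintro ⟨h1, h2⟩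
    refine ⟨h1, ?_⟩
    have h3 := hA.conj_mem _ h2 g⁻¹
    rw [inv_inv] at h3; exact h3

theorem core [Finite G] {p : ℕ} [hp : Fact p.Prime] (A : Subgroup G) [hA : A.Normal]
    (T H : Subgroup G) (hTA : T ≤ A) (hTp : IsPGroup p ↥T) (hTidx : ¬ p ∣ T.relIndex A)
    (hTH : T ≤ H) (hcA : PronIn A (H ⊓ A))
    (hcN : PronIn (Subgroup.normalizer (T : Set G)) (H ⊓ Subgroup.normalizer (T : Set G))) :
    ∀ a ∈ A, Good H a := by
  obtain ⟨V, hV⟩ : ∃ V : Subgroup G, V = H ⊓ A := ⟨_, rfl⟩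
  rw [← hV] at hcA
  have hVH : V ≤ H := by rw [hV]; exact inf_le_left
  have hVA : V ≤ A := by rw [hV]; exact inf_le_right
  have hTV : T ≤ V := by rw [hV]; exact le_inf hTH hTA
  have hidxV : ¬ p ∣ T.relIndex V := by
    intro hd
    apply hTidx
    rw [← Subgroup.relIndex_mul_relIndex T V A hTV hVA]
    exact dvd_mul_of_dvd_left hd _
  have hVconj : ∀ g : G, V.map (MulAut.conj g).toMonoidHom =
      H.map (MulAut.conj g).toMonoidHom ⊓ A := by
    intro g; rw [hV]; exact inf_map_conj A H g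
  have hHV : ∀ h ∈ H, V.map (MulAut.conj h).toMonoidHom = V := by
    intro h hh
    rw [hVconj, map_conj_of_mem H h hh, hV]
  have hTconj : ∀ g : G, V.map (MulAut.conj g).toMonoidHom = V →
      ∃ v ∈ V, T.map (MulAut.conj g).toMonoidHom = T.map (MulAut.conj v).toMonoidHom := by
    intro g hg
    have h2 : T.map (MulAut.conj g).toMonoidHom ≤ V := by
      rw [← hg]; exact Subgroup.map_mono hTV
    exact sylow_conj_in V T _ hTV h2 hTp (hTp.map _)
      (Subgroup.card_map_of_injective (MulEquiv.injective _)).symm hidxV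
  intro a ha
  obtain ⟨b, hb, hbe⟩ := hcA a ha
  have hbH : b ∈ H ⊔ H.map (MulAut.conj a).toMonoidHom :=
    (sup_le_sup hVH (Subgroup.map_mono hVH)) hb
  have hbA : b ∈ A := by
    have hle : V ⊔ V.map (MulAut.conj a).toMonoidHom ≤ A := by
      apply sup_le hVA
      rw [hVconj]; exact inf_le_right
    exact hle hb
  apply good_of_mul H a b hbH
  have ha1 : b⁻¹ * a ∈ A := A.mul_mem (A.inv_mem hbA) ha
  have hV1 : V.map (MulAut.conj (b⁻¹ * a)).toMonoidHom = V := by
    rw [map_conj_mul, hbe, ← map_conj_mul, inv_mul_cancel, map_conj_one]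
  obtain ⟨v, hv, hve⟩ := hTconj (b⁻¹ * a) hV1
  apply good_of_mul H (b⁻¹ * a) v
    ((le_sup_left : H ≤ H ⊔ H.map (MulAut.conj (b⁻¹ * a)).toMonoidHom) (hVH hv))
  have hV2 : V.map (MulAut.conj (v⁻¹ * (b⁻¹ * a))).toMonoidHom = V := by
    rw [map_conj_mul, hV1, map_conj_of_mem V v⁻¹ (V.inv_mem hv)]
  have hT2 : T.map (MulAut.conj (v⁻¹ * (b⁻¹ * a))).toMonoidHom = T := by
    rw [map_conj_mul, hve, ← map_conj_mul, inv_mul_cancel, map_conj_one]
  have hN2 : v⁻¹ * (b⁻¹ * a) ∈ Subgroup.normalizer (T : Set G) :=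
    mem_normalizer_of_map_conj T _ hT2
  generalize v⁻¹ * (b⁻¹ * a) = a₂ at hV2 hT2 hN2 ⊢
  obtain ⟨x, hx, hxe⟩ := hcN a₂ hN2
  refine ⟨x, (sup_le_sup inf_le_left (Subgroup.map_mono inf_le_left)) hx, ?_⟩
  have hfrat : H = V ⊔ (H ⊓ Subgroup.normalizer (T : Set G)) := by
    apply le_antisymm
    · intro h hh
      obtain ⟨w, hw, hwe⟩ := hTconj h (hHV h hh)
      have hwn : w⁻¹ * h ∈ Subgroup.normalizer (T : Set G) := by
        apply mem_normalizer_of_map_conj
        rw [map_conj_mul, hwe, ← map_conj_mul, inv_mul_cancel, map_conj_one]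
      have e : h = w * (w⁻¹ * h) := by group
      rw [e]
      exact Subgroup.mul_mem_sup hw ⟨H.mul_mem (H.inv_mem (hVH hw)) hh, hwn⟩
    · exact sup_le hVH inf_le_left
  have hxV : V.map (MulAut.conj x).toMonoidHom = V := by
    apply map_conj_of_mem_normalizer
    have hHn : H ≤ Subgroup.normalizer (V : Set G) :=
      fun h hh => mem_normalizer_of_map_conj V h (hHV h hh)
    have ha2n : a₂ ∈ Subgroup.normalizer (V : Set G) := mem_normalizer_of_map_conj V a₂ hV2
    have hle : (H ⊓ Subgroup.normalizer (T : Set G)) ⊔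
        (H ⊓ Subgroup.normalizer (T : Set G)).map (MulAut.conj a₂).toMonoidHom ≤
          Subgroup.normalizer (V : Set G) := by
      apply sup_le (inf_le_left.trans hHn)
      intro y hy
      rw [mem_map_conj] at hy
      have e : y = a₂ * (a₂⁻¹ * y * a₂) * a₂⁻¹ := by group
      rw [e]
      exact Subgroup.mul_mem _ (Subgroup.mul_mem _ ha2n (hHn hy.1)) (Subgroup.inv_mem _ ha2n)
    exact hle hx
  calc H.map (MulAut.conj a₂).toMonoidHom
      = (V ⊔ (H ⊓ Subgroup.normalizer (T : Set G))).map (MulAut.conj a₂).toMonoidHom := by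
        rw [← hfrat]
    _ = V ⊔ (H ⊓ Subgroup.normalizer (T : Set G)).map (MulAut.conj x).toMonoidHom := by
        rw [Subgroup.map_sup, hV2, hxe]
    _ = (V ⊔ (H ⊓ Subgroup.normalizer (T : Set G))).map (MulAut.conj x).toMonoidHom := by
        rw [Subgroup.map_sup, hxV]
    _ = H.map (MulAut.conj x).toMonoidHom := by rw [← hfrat]

theorem setup [Finite G] {p : ℕ} [hp : Fact p.Prime] (A : Subgroup G) [hA : A.Normal]
    (T : Subgroup G) (PA : Sylow p ↥A) (hPA : (PA : Subgroup ↥A).map A.subtype = T) :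
    T ≤ A ∧ IsPGroup p ↥T ∧ ¬ p ∣ T.relIndex A ∧
      ∃ P₂ : Sylow p G, T ≤ (P₂ : Subgroup G) ∧
        (P₂ : Subgroup G) ≤ Subgroup.normalizer (T : Set G) := by
  have hTA : T ≤ A := by rw [← hPA]; exact Subgroup.map_subtype_le _
  have hTp : IsPGroup p ↥T := by rw [← hPA]; exact PA.isPGroup'.map _
  have hsub : T.subgroupOf A = (PA : Subgroup ↥A) := by
    rw [← hPA]; exact Subgroup.comap_map_eq_self_of_injective (Subgroup.subtype_injective A) _
  have hTidx : ¬ p ∣ T.relIndex A := by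
    show ¬ p ∣ (T.subgroupOf A).index
    rw [hsub]; exact PA.not_dvd_index
  refine ⟨hTA, hTp, hTidx, ?_⟩
  obtain ⟨P₂, hP₂⟩ := hTp.exists_le_sylow
  refine ⟨P₂, hP₂, ?_⟩
  have hinf : (P₂ : Subgroup G) ⊓ A ≤ T := by
    intro y hy
    have hQ : IsPGroup p ↥(((P₂ : Subgroup G) ⊓ A).subgroupOf A) :=
      (P₂.isPGroup'.to_le inf_le_left).comap_subtype
    have hle : (PA : Subgroup ↥A) ≤ ((P₂ : Subgroup G) ⊓ A).subgroupOf A := by
      intro z hz
      rw [Subgroup.mem_subgroupOf]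
      have hzT : (z : G) ∈ T := by rw [← hPA]; exact ⟨z, hz, rfl⟩
      exact ⟨hP₂ hzT, z.2⟩
    have heq := PA.is_maximal' hQ hle
    have hy' : (⟨y, hy.2⟩ : ↥A) ∈ ((P₂ : Subgroup G) ⊓ A).subgroupOf A := by
      rw [Subgroup.mem_subgroupOf]; exact hy
    rw [heq] at hy'
    rw [← hPA]; exact ⟨⟨y, hy.2⟩, hy', rfl⟩
  intro u hu
  apply mem_normalizer_of_le
  intro y hy
  rw [mem_map_conj] at hy
  apply hinf
  have e : y = u * (u⁻¹ * y * u) * u⁻¹ := by group
  rw [e]
  exact ⟨(P₂ : Subgroup G).mul_mem ((P₂ : Subgroup G).mul_mem hu (hP₂ hy))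
    ((P₂ : Subgroup G).inv_mem hu), hA.conj_mem _ (hTA hy) u⟩

theorem backward [Finite G] {p : ℕ} [hp : Fact p.Prime] (A : Subgroup G) [hA : A.Normal]
    (hAp : ∀ K : Subgroup ↥A, (∃ P : Sylow p ↥A, (P : Subgroup ↥A) ≤ K) → Cfsg.IsPronormal K)
    (T : Subgroup G) (PA : Sylow p ↥A) (hPA : (PA : Subgroup ↥A).map A.subtype = T)
    [hTn : (T.subgroupOf (Subgroup.normalizer (T : Set G))).Normal]
    (hN : ∀ K : Subgroup (↥(Subgroup.normalizer (T : Set G)) ⧸
        T.subgroupOf (Subgroup.normalizer (T : Set G))),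
      (∃ P : Sylow p (↥(Subgroup.normalizer (T : Set G)) ⧸
        T.subgroupOf (Subgroup.normalizer (T : Set G))),
        (P : Subgroup (↥(Subgroup.normalizer (T : Set G)) ⧸
          T.subgroupOf (Subgroup.normalizer (T : Set G)))) ≤ K) → Cfsg.IsPronormal K)
    (hred : ∀ (H : Subgroup G) (P₂ : Sylow p G), (P₂ : Subgroup G) ≤ H →
      (∀ a ∈ A, Good H a) → ∀ g, Good H g)
    (K : Subgroup G) (hK : ∃ P : Sylow p G, (P : Subgroup G) ≤ K) : Cfsg.IsPronormal K := by
  obtain ⟨P, hPK⟩ := hK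
  obtain ⟨hTA, hTp, hTidx, P₂, hTP₂, hP₂N⟩ := setup A T PA hPA
  obtain ⟨c, hc⟩ := MulAction.exists_smul_eq G P P₂
  have hP₂K : (P₂ : Subgroup G) ≤ K.map (MulAut.conj c).toMonoidHom := by
    intro y hy
    rw [← hc, Cfsg.Agent.Lib.Helper12.SylowBasic.mem_smul_sylow_iff] at hy
    rw [mem_map_conj]
    exact hPK hy
  suffices h : Cfsg.IsPronormal (K.map (MulAut.conj c).toMonoidHom) by
    have h' := isPronormal_conj _ c⁻¹ h
    rw [map_conj_inv_cancel] at h'
    exact h'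
  obtain ⟨H, hH⟩ : ∃ H : Subgroup G, H = K.map (MulAut.conj c).toMonoidHom := ⟨_, rfl⟩
  rw [← hH] at hP₂K ⊢
  have hTH : T ≤ H := hTP₂.trans hP₂K
  have hcA : PronIn A (H ⊓ A) := by
    apply pronIn_of_isPronormal_subgroupOf A (H ⊓ A) inf_le_right
    rw [Subgroup.inf_subgroupOf_right]
    apply hAp
    refine ⟨PA, ?_⟩
    intro z hz
    rw [Subgroup.mem_subgroupOf]
    apply hTH
    rw [← hPA]; exact ⟨z, hz, rfl⟩
  have hcN : PronIn (Subgroup.normalizer (T : Set G)) (H ⊓ Subgroup.normalizer (T : Set G)) := by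
    apply pronIn_of_isPronormal_subgroupOf _ _ inf_le_right
    rw [Subgroup.inf_subgroupOf_right]
    apply isPronormal_of_map (QuotientGroup.mk' (T.subgroupOf (Subgroup.normalizer (T : Set G))))
    · rw [QuotientGroup.ker_mk']
      intro z hz
      rw [Subgroup.mem_subgroupOf] at hz ⊢
      exact hTH hz
    · apply hN
      refine ⟨(P₂.subtype hP₂N).mapSurjective (QuotientGroup.mk'_surjective _), ?_⟩
      rw [Sylow.coe_mapSurjective, Sylow.coe_subtype]
      apply Subgroup.map_mono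
      intro z hz
      rw [Subgroup.mem_subgroupOf] at hz ⊢
      exact hP₂K hz
  exact hred H P₂ hP₂K (core A T H hTA hTp hTidx hTH hcA hcN)

theorem forward [Finite G] {p : ℕ} [hp : Fact p.Prime] (A : Subgroup G) [hA : A.Normal]
    (T : Subgroup G) (PA : Sylow p ↥A) (hPA : (PA : Subgroup ↥A).map A.subtype = T)
    [hTn : (T.subgroupOf (Subgroup.normalizer (T : Set G))).Normal]
    (hG : ∀ K : Subgroup G, (∃ P : Sylow p G, (P : Subgroup G) ≤ K) → Cfsg.IsPronormal K)
    (Kb : Subgroup (↥(Subgroup.normalizer (T : Set G)) ⧸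
      T.subgroupOf (Subgroup.normalizer (T : Set G))))
    (hKb : ∃ P : Sylow p (↥(Subgroup.normalizer (T : Set G)) ⧸
        T.subgroupOf (Subgroup.normalizer (T : Set G))),
        (P : Subgroup (↥(Subgroup.normalizer (T : Set G)) ⧸
          T.subgroupOf (Subgroup.normalizer (T : Set G)))) ≤ Kb) : Cfsg.IsPronormal Kb := by
  obtain ⟨Sb, hSb⟩ := hKb
  obtain ⟨hTA, hTp, hTidx, P₂, hTP₂, hP₂N⟩ := setup A T PA hPA
  obtain ⟨K', hK'⟩ : ∃ K' : Subgroup ↥(Subgroup.normalizer (T : Set G)),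
      K' = Kb.comap (QuotientGroup.mk' (T.subgroupOf (Subgroup.normalizer (T : Set G)))) :=
    ⟨_, rfl⟩
  have hK'idx : ¬ p ∣ K'.index := by
    rw [hK', Subgroup.index_comap_of_surjective _ (QuotientGroup.mk'_surjective _)]
    intro hd
    exact Sb.not_dvd_index (hd.trans (Subgroup.index_dvd_of_le hSb))
  have hNidx : ¬ p ∣ (Subgroup.normalizer (T : Set G)).index := fun hd =>
    P₂.not_dvd_index (hd.trans (Subgroup.index_dvd_of_le hP₂N))
  have hKidx : ¬ p ∣ (K'.map (Subgroup.normalizer (T : Set G)).subtype).index := by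
    rw [Subgroup.index_map_of_injective _ (Subgroup.subtype_injective _), Subgroup.range_subtype]
    intro hd
    rcases (Nat.Prime.dvd_mul hp.out).mp hd with h1 | h1
    · exact hK'idx h1
    · exact hNidx h1
  obtain ⟨P₃, hP₃⟩ := exists_sylow_le_of_not_dvd_index _ hKidx
  have hpro := hG _ ⟨P₃, hP₃⟩
  have hpin : PronIn (Subgroup.normalizer (T : Set G))
      (K'.map (Subgroup.normalizer (T : Set G)).subtype) := fun g _ => hpro g
  have h1 := isPronormal_subgroupOf_of_pronIn _ _ (Subgroup.map_subtype_le _) hpin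
  have e1 : (K'.map (Subgroup.normalizer (T : Set G)).subtype).subgroupOf
      (Subgroup.normalizer (T : Set G)) = K' :=
    Subgroup.comap_map_eq_self_of_injective (Subgroup.subtype_injective _) _
  rw [e1] at h1
  have h2 := isPronormal_map
    (QuotientGroup.mk' (T.subgroupOf (Subgroup.normalizer (T : Set G))))
    (QuotientGroup.mk'_surjective _) K' h1
  rw [hK', Subgroup.map_comap_eq_self_of_surjective (QuotientGroup.mk'_surjective _)] at h2
  exact h2

theorem red71 [Finite G] {p : ℕ} [Fact p.Prime] (A : Subgroup G) [hA : A.Normal]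
    (hQ : ∀ P : Sylow p (G ⧸ A),
      Subgroup.normalizer ((P : Subgroup (G ⧸ A)) : Set (G ⧸ A)) = P)
    (H : Subgroup G) (P₂ : Sylow p G) (hP₂H : (P₂ : Subgroup G) ≤ H)
    (hgood : ∀ a ∈ A, Good H a) (g : G) : Good H g := by
  have hP₂L : (P₂ : Subgroup G) ≤ H ⊔ H.map (MulAut.conj g).toMonoidHom := hP₂H.trans le_sup_left
  have hP₂gL : (P₂ : Subgroup G).map (MulAut.conj g).toMonoidHom ≤
      H ⊔ H.map (MulAut.conj g).toMonoidHom := (Subgroup.map_mono hP₂H).trans le_sup_right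
  obtain ⟨b, hb, hbe⟩ := sylow_conj_in _ _ _ hP₂L hP₂gL P₂.isPGroup' (P₂.isPGroup'.map _)
    (Subgroup.card_map_of_injective (MulEquiv.injective _)).symm
    (fun hd => P₂.not_dvd_index (hd.trans (Subgroup.relIndex_dvd_index_of_le hP₂L)))
  apply good_of_mul H g b hb
  have hnorm : (P₂ : Subgroup G).map (MulAut.conj (b⁻¹ * g)).toMonoidHom = P₂ := by
    rw [map_conj_mul, hbe, ← map_conj_mul, inv_mul_cancel, map_conj_one]
  generalize b⁻¹ * g = g₁ at hnorm ⊢
  have h1 : QuotientGroup.mk' A g₁ ∈ Subgroup.normalizer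
      (((P₂.mapSurjective (QuotientGroup.mk'_surjective A) : Sylow p (G ⧸ A)) :
        Subgroup (G ⧸ A)) : Set (G ⧸ A)) := by
    apply mem_normalizer_of_map_conj
    rw [Sylow.coe_mapSurjective, ← map_map_conj, hnorm]
  rw [hQ, Sylow.coe_mapSurjective] at h1
  obtain ⟨u, hu, hue⟩ := h1
  have hua : u⁻¹ * g₁ ∈ A := QuotientGroup.eq.mp hue
  have ha' : g₁ * u⁻¹ ∈ A := by
    have h3 := hA.conj_mem _ hua u
    have e : u * (u⁻¹ * g₁) * u⁻¹ = g₁ * u⁻¹ := by group
    rw [e] at h3; exact h3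
  apply good_congr H g₁ (g₁ * u⁻¹) _ (hgood _ ha')
  rw [map_conj_mul H g₁ u⁻¹, map_conj_of_mem H u⁻¹ (H.inv_mem (hP₂H hu))]

theorem red70 [Finite G] {p : ℕ} [Fact p.Prime] (A : Subgroup G) [hA : A.Normal]
    (hQ : ∀ K : Subgroup (G ⧸ A), (∃ P : Sylow p (G ⧸ A), (P : Subgroup (G ⧸ A)) ≤ K) →
      Cfsg.IsPronormal K)
    (hii : ∀ K : Subgroup G, (∃ P : Sylow p G, (P : Subgroup G) ≤ K) →
      (Subgroup.normalizer (K : Set G)).map (QuotientGroup.mk' A) =
        Subgroup.normalizer ((K.map (QuotientGroup.mk' A) : Subgroup (G ⧸ A)) : Set (G ⧸ A)))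
    (H : Subgroup G) (P₂ : Sylow p G) (hP₂H : (P₂ : Subgroup G) ≤ H)
    (hgood : ∀ a ∈ A, Good H a) (g : G) : Good H g := by
  have hpro : Cfsg.IsPronormal (H.map (QuotientGroup.mk' A)) := by
    apply hQ
    refine ⟨P₂.mapSurjective (QuotientGroup.mk'_surjective A), ?_⟩
    rw [Sylow.coe_mapSurjective]; exact Subgroup.map_mono hP₂H
  obtain ⟨xb, hxb, hxe⟩ := hpro (QuotientGroup.mk' A g)
  rw [← map_map_conj, ← Subgroup.map_sup] at hxb
  obtain ⟨x, hx, rfl⟩ := hxb
  apply good_of_mul H g x hx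
  have hn : QuotientGroup.mk' A (x⁻¹ * g) ∈ Subgroup.normalizer
      ((H.map (QuotientGroup.mk' A) : Subgroup (G ⧸ A)) : Set (G ⧸ A)) := by
    apply mem_normalizer_of_map_conj
    rw [map_mul, map_conj_mul, hxe, ← map_conj_mul, map_inv, inv_mul_cancel, map_conj_one]
  rw [← hii H ⟨P₂, hP₂H⟩] at hn
  obtain ⟨n, hn, hne⟩ := hn
  generalize x⁻¹ * g = g₁ at hne ⊢
  have hna : n⁻¹ * g₁ ∈ A := QuotientGroup.eq.mp hne
  have ha' : g₁ * n⁻¹ ∈ A := by
    have h3 := hA.conj_mem _ hna n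
    have e : n * (n⁻¹ * g₁) * n⁻¹ = g₁ * n⁻¹ := by group
    rw [e] at h3; exact h3
  apply good_congr H g₁ (g₁ * n⁻¹) _ (hgood _ ha')
  rw [map_conj_mul H g₁ n⁻¹, map_conj_of_mem_normalizer H n⁻¹ (Subgroup.inv_mem _ hn)]

theorem normalizer_map_of_pronormal (A : Subgroup G) [hA : A.Normal] (K : Subgroup G)
    (hK : Cfsg.IsPronormal K) :
    (Subgroup.normalizer (K : Set G)).map (QuotientGroup.mk' A) =
      Subgroup.normalizer ((K.map (QuotientGroup.mk' A) : Subgroup (G ⧸ A)) : Set (G ⧸ A)) := by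
  apply le_antisymm
  · rintro _ ⟨n, hn, rfl⟩
    apply mem_normalizer_of_map_conj
    rw [← map_map_conj, map_conj_of_mem_normalizer K n hn]
  · intro gb hgb
    obtain ⟨g, rfl⟩ := QuotientGroup.mk'_surjective A gb
    have h1 : (K.map (MulAut.conj g).toMonoidHom).map (QuotientGroup.mk' A) =
        K.map (QuotientGroup.mk' A) := by
      rw [map_map_conj]; exact map_conj_of_mem_normalizer _ _ hgb
    have h2 := congrArg (Subgroup.comap (QuotientGroup.mk' A)) h1
    rw [Subgroup.comap_map_eq, Subgroup.comap_map_eq, QuotientGroup.ker_mk'] at h2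
    obtain ⟨x, hx, hxe⟩ := hK g
    have hxKA : x ∈ K ⊔ A := by
      have hle : K ⊔ K.map (MulAut.conj g).toMonoidHom ≤ K ⊔ A := by
        apply sup_le le_sup_left
        rw [← h2]; exact le_sup_left
      exact hle hx
    rw [← SetLike.mem_coe, Subgroup.mul_normal] at hxKA
    obtain ⟨k, hk, a, ha, rfl⟩ := hxKA
    have hn : (k * a)⁻¹ * g ∈ Subgroup.normalizer (K : Set G) := by
      apply mem_normalizer_of_map_conj
      rw [map_conj_mul, hxe, ← map_conj_mul, inv_mul_cancel, map_conj_one]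
    refine ⟨k * ((k * a)⁻¹ * g), Subgroup.mul_mem _ (Subgroup.le_normalizer hk) hn, ?_⟩
    have hA1 : QuotientGroup.mk' A a = 1 := (QuotientGroup.eq_one_iff a).mpr ha
    simp only [map_mul, map_inv, hA1, mul_one]
    group

end Cfsg.Agent.Lib.Helper22.Pronormal
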